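import Cfsg.Prelude.Def_MonsterType
import Cfsg.Agent.LargeExtra.Basic
import Cfsg.Agent.Layer.FStar
import Cfsg.Agent.Layer.PConstraint
import Cfsg.Agent.Layer.SimpleComponents
import Cfsg.Agent.Layer.PTerminalGroup
import Cfsg.Agent.Control.Basic

/-!
# A group with a large extraspecial 2-subgroup: the first reduction
-/

set_option autoImplicit false
set_option linter.unusedSectionVars false
set_option linter.style.haveILetI false

namespace Cfsg.Agent.LargeExtraReduce

open Subgroup Cfsg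
open scoped commutatorElement

variable {G : Type*} [Group G] [Finite G]

/-- The hypothesis, with a generator of the centre named. -/
structure Ctx (Q : Subgroup G) (z : G) : Prop where
  es : IsExtraspecial 2 ↥Q
  cent : centralizer (Q : Set G) = zpowers z
  nrm : centralizer ({z} : Set G) ≤ normalizer (Q : Set G)
  odd : ∀ K : Subgroup G, Odd (Nat.card K) → Q ≤ normalizer (K : Set G) → K = ⊥
  zc : (center ↥Q).map Q.subtype = zpowers z

theorem Ctx.of_large {Q : Subgroup G} (h : IsLargeExtraspecial Q) {z : G}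
    (hz : (center ↥Q).map Q.subtype = zpowers z) : Ctx Q z := by
  obtain ⟨h1, h2, h3, h4⟩ := h
  refine ⟨h1, h2.trans hz, ?_, h4, hz⟩
  rw [hz, zpowers_eq_closure, centralizer_closure] at h3
  exact h3

variable {Q : Subgroup G} {z : G}

theorem eq_of_disjoint {A B : Subgroup G} (h : A ⊓ B = ⊥) {a a' b b' : G} (ha : a ∈ A)
    (ha' : a' ∈ A) (hb : b ∈ B) (hb' : b' ∈ B) (he : a * b = a' * b') : a = a' ∧ b = b' := by
  have e : a'⁻¹ * a = b' * b⁻¹ := by
    rw [eq_mul_inv_iff_mul_eq, mul_assoc, he]; group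
  have : a'⁻¹ * a ∈ A ⊓ B :=
    Subgroup.mem_inf.2 ⟨A.mul_mem (A.inv_mem ha') ha, e ▸ B.mul_mem hb' (B.inv_mem hb)⟩
  rw [h, mem_bot] at this
  refine ⟨(inv_mul_eq_one.1 this).symm, ?_⟩
  rw [this] at e
  exact (mul_inv_eq_one.1 e.symm).symm

theorem Ctx.orderOf_z (h : Ctx Q z) : orderOf z = 2 := by
  rw [← Nat.card_zpowers, ← h.zc]; exact LargeExtra.card_zc h.es

theorem Ctx.z_mem (h : Ctx Q z) : z ∈ Q :=
  (h.zc ▸ LargeExtra.zc_le : zpowers z ≤ Q) (mem_zpowers z)

theorem Ctx.z_ne (h : Ctx Q z) : z ≠ 1 := fun e => by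
  have := h.orderOf_z; rw [e, orderOf_one] at this; omega

theorem Ctx.z_sq (h : Ctx Q z) : z * z = 1 := by
  have := pow_orderOf_eq_one z; rwa [h.orderOf_z, pow_two] at this

theorem Ctx.mem_zpowers_iff (h : Ctx Q z) {x : G} : x ∈ zpowers z ↔ x = 1 ∨ x = z := by
  constructor
  · intro hx
    obtain ⟨n, rfl⟩ := Subgroup.mem_zpowers_iff.1 hx
    have hn := zpow_mod_orderOf z n
    rw [h.orderOf_z] at hn
    rcases Int.emod_two_eq_zero_or_one n with e | e <;> rw [← hn] <;> simp [e]
  · rintro (rfl | rfl)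
    exacts [one_mem _, mem_zpowers _]

theorem Ctx.z_comm (h : Ctx Q z) {q : G} (hq : q ∈ Q) : q * z = z * q := by
  have : z ∈ centralizer (Q : Set G) := by rw [h.cent]; exact mem_zpowers z
  exact mem_centralizer_iff.1 this q hq

theorem Ctx.q_two (h : Ctx Q z) : IsPGroup 2 ↥Q := h.es.1.1

theorem Ctx.q_solvable (h : Ctx Q z) : Group.IsSolvable ↥Q :=
  haveI : Fact (Nat.Prime 2) := ⟨Nat.prime_two⟩
  haveI := h.q_two.isNilpotent
  inferInstance

/-- A nontrivial subgroup normalised by `Q` contains `z`. -/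
theorem Ctx.mem_of_normalized (h : Ctx Q z) {N : Subgroup G} (hN : Q ≤ normalizer (N : Set G))
    (hne : N ≠ ⊥) : z ∈ N := by
  haveI : Fact (Nat.Prime 2) := ⟨Nat.prime_two⟩
  obtain ⟨T, hT, hQT⟩ := Control.SylIn.exists_ge (p := 2) (H := Q ⊔ N) h.q_two le_sup_left
  have hn : Q ⊔ N ≤ normalizer (N : Set G) := sup_le hN le_normalizer
  have hU := hT.inf_normal le_sup_right hn
  have hTU : T ⊓ N ≠ ⊥ := by
    intro e
    apply hne
    refine h.odd N ?_ hN
    rw [Nat.odd_iff, ← Nat.two_dvd_ne_zero]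
    have := hU.not_dvd
    rwa [e, relIndex_bot_left] at this
  obtain ⟨u, hu, huo, huc⟩ := Layer.exists_central_of_normalized hT.isPGroup inf_le_left
    (Layer.le_normalizer_inf le_normalizer (hT.le.trans hn)) hTU
  have hu' : u ∈ zpowers z := by
    rw [← h.cent, mem_centralizer_iff]
    exact fun q hq => huc q (hQT hq)
  rcases h.mem_zpowers_iff.1 hu' with rfl | rfl
  · rw [orderOf_one] at huo; omega
  · exact hu.2

/-- A Sylow subgroup containing `Q` centralises `z`. -/
theorem Ctx.exists_sylow_centralizing (h : Ctx Q z) :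
    ∃ T : Sylow 2 G, Q ≤ (T : Subgroup G) ∧ (T : Subgroup G) ≤ centralizer ({z} : Set G) := by
  haveI : Fact (Nat.Prime 2) := ⟨Nat.prime_two⟩
  obtain ⟨T, hQT⟩ := h.q_two.exists_le_sylow
  refine ⟨T, hQT, fun g hg => ?_⟩
  obtain ⟨u, hu, huo, huc⟩ := Layer.exists_central_of_normalized T.2 le_rfl le_normalizer
    (fun e => h.z_ne (by
      have := hQT h.z_mem
      rwa [e, mem_bot] at this))
  have hu' : u ∈ zpowers z := by
    rw [← h.cent, mem_centralizer_iff]
    exact fun q hq => huc q (hQT hq)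
  rcases h.mem_zpowers_iff.1 hu' with rfl | rfl
  · rw [orderOf_one] at huo; omega
  · exact mem_centralizer_singleton_iff.2 (huc g hg)

/-- No component centralises `z`. -/
theorem Ctx.not_commute (h : Ctx Q z) {L : Subgroup G} (hL : IsComponent L) :
    ¬ L ≤ centralizer ({z} : Set G) := by
  intro hz
  have h1 := Layer.component_commute_solvable hL h.q_solvable (hz.trans h.nrm)
  have h2 : L ≤ zpowers z := by
    rw [← h.cent]; exact commutator_eq_bot_iff_le_centralizer.1 h1
  exact Layer.qs_subgroup_not_abelian hL.2 (commutator_eq_bot_iff_le_centralizer.2 fun x hx =>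
    mem_centralizer_iff.2 fun y hy => by
      obtain ⟨i, hi⟩ := Subgroup.mem_zpowers_iff.1 (h2 hx)
      obtain ⟨j, hj⟩ := Subgroup.mem_zpowers_iff.1 (h2 hy)
      rw [← hi, ← hj, ← zpow_add, ← zpow_add, add_comm])

theorem Ctx.pPrimeCore_eq_bot (h : Ctx Q z) : pPrimeCore 2 G = ⊥ := by
  haveI : (pPrimeCore 2 G).Normal := sSup_normal _ fun _ h => h.1
  refine h.odd _ (Nat.coprime_two_right.1 Core.coprime_card_pPrimeCore) ?_
  rw [normalizer_eq_top_iff.2 inferInstance]; exact le_top

theorem Ctx.fitting_eq (h : Ctx Q z) : fittingSubgroup G = pCore 2 G :=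
  haveI : Fact (Nat.Prime 2) := ⟨Nat.prime_two⟩
  Layer.fitting_eq_pCore_of_pPrimeCore_eq_bot h.pPrimeCore_eq_bot

theorem Ctx.abelian_case (h : Ctx Q z) (hW : pCore 2 G ≠ ⊥) {M : Subgroup G}
    (hM : M = normalClosure ({z} : Set G)) :
    IsMulCommutative ↥M ∧ generalizedFittingSubgroup G = pCore 2 G := by
  haveI : Fact (Nat.Prime 2) := ⟨Nat.prime_two⟩
  set W := pCore 2 G
  have hWp : IsPGroup 2 ↥W := Core.pCore_isPGroup
  have := hWp.isNilpotent
  set ZW := (center ↥W).map W.subtype with hZW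
  have hne : ZW ≠ ⊥ := by
    intro e
    have h1 : center ↥W = ⊥ := (map_eq_bot_iff_of_injective _ W.subtype_injective).1 e
    haveI : Nontrivial ↥W := (nontrivial_iff_ne_bot W).2 hW
    have := hWp.center_nontrivial
    rw [h1] at this
    exact not_nontrivial _ this
  haveI : ZW.Normal := inferInstance
  have hz : z ∈ ZW := h.mem_of_normalized
    (by rw [normalizer_eq_top_iff.2 inferInstance]; exact le_top) hne
  have hMle : M ≤ ZW := hM ▸ normalClosure_le_normal (Set.singleton_subset_iff.2 hz)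
  refine ⟨⟨⟨fun a b => Subtype.ext ?_⟩⟩, ?_⟩
  · obtain ⟨a', ha', ea⟩ := hMle a.2
    obtain ⟨b', -, eb⟩ := hMle b.2
    show (a : G) * b = b * a
    rw [← ea, ← eb, ← map_mul, ← map_mul, mem_center_iff.1 ha' b']
  · have hlay : layer G = ⊥ := by
      refine Layer.layer_eq_bot_iff.2 fun L hL => h.not_commute hL fun x hx => ?_
      have h1 := Layer.component_commute_subnormal_solvable hL
        (inferInstance : Group.IsSolvable ↥W) (pCore_normal_isSubnormal)
      exact mem_centralizer_singleton_iff.2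
        (Layer.commute_of_commutator_eq_bot h1 hx (map_subtype_le _ hz))
    rw [generalizedFittingSubgroup, hlay, h.fitting_eq, bot_sup_eq]
where
  pCore_normal_isSubnormal : (pCore 2 G).IsSubnormal :=
    (inferInstance : (pCore 2 G).Normal).isSubnormal

end Cfsg.Agent.LargeExtraReduce
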