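import Cfsg.Agent.LargeExtraReduce.Basic
import Cfsg.Agent.Core.Frattini
import Cfsg.Agent.Fusion.Critical

/-!
# A large extraspecial 2-subgroup when `O_2(G) = 1`
-/

set_option autoImplicit false
set_option linter.unusedSectionVars false
set_option linter.style.haveILetI false

namespace Cfsg.Agent.LargeExtraReduce

open Subgroup Cfsg
open scoped commutatorElement

variable {G : Type*} [Group G] [Finite G] {Q : Subgroup G} {z : G}

/-- The commutator of two elements of `Q` is `1` or `z`. -/
theorem Ctx.comm_cases (h : Ctx Q z) {x y : G} (hx : x ∈ Q) (hy : y ∈ Q) :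
    x * y * x⁻¹ * y⁻¹ = 1 ∨ x * y * x⁻¹ * y⁻¹ = z := by
  refine h.mem_zpowers_iff.1 ?_
  rw [← h.zc, ← h.es.1.2.2]
  exact ⟨⁅(⟨x, hx⟩ : ↥Q), ⟨y, hy⟩⁆, commutator_mem_commutator (mem_top _) (mem_top _), rfl⟩

/-- The square of an element of `Q` is `1` or `z`. -/
theorem Ctx.sq_cases (h : Ctx Q z) {x : G} (hx : x ∈ Q) : x * x = 1 ∨ x * x = z := by
  haveI : Fact (Nat.Prime 2) := ⟨Nat.prime_two⟩
  refine h.mem_zpowers_iff.1 ?_
  rw [← h.zc, ← h.es.1.2.1]
  exact ⟨(⟨x, hx⟩ : ↥Q) ^ 2, Core.pow_mem_frattini h.q_two _, by simp [pow_two]⟩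

/-- The simple components. -/
def comps (G : Type*) [Group G] : Set (Subgroup G) := {L : Subgroup G | IsComponent L}

/-- The join of the other components. -/
def others {G : Type*} [Group G] (L : Subgroup G) : Subgroup G := sSup (comps G \ {L})

theorem simple_of_trivial_radical (hF : fittingSubgroup G = ⊥) {L : Subgroup G}
    (hL : IsComponent L) : IsSimpleGroup ↥L := by
  have hc : center ↥L = ⊥ := by
    refine (map_eq_bot_iff_of_injective _ L.subtype_injective).1 (le_bot_iff.1 (hF ▸ ?_))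
    haveI : IsMulCommutative ↥((center ↥L).map L.subtype) :=
      ⟨⟨fun a b => Subtype.ext (by
        obtain ⟨a', ha', ea⟩ := a.2
        obtain ⟨b', -, eb⟩ := b.2
        show (a : G) * b = b * a
        rw [← ea, ← eb, ← map_mul, ← map_mul, mem_center_iff.1 ha' b'])⟩⟩
    refine Layer.subnormal_le_fitting ?_ (@CommGroup.isNilpotent _ IsMulCommutative.instCommGroup)
    refine Subgroup.IsSubnormal.trans' ?_ hL.1
    exact (inferInstance : (center ↥L).Normal).isSubnormal
  haveI := hL.2.2
  exact ((QuotientGroup.quotientMulEquivOfEq hc).trans QuotientGroup.quotientBot).symm.isSimpleGroup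

section

variable (hF : fittingSubgroup G = ⊥)
include hF

theorem comps_simple : ∀ L ∈ comps G, IsComponent L ∧ IsSimpleGroup ↥L :=
  fun _ hL => ⟨hL, simple_of_trivial_radical hF hL⟩

theorem inf_others_eq_bot {L : Subgroup G} (hL : IsComponent L) : L ⊓ others L = ⊥ := by
  refine (eq_bot_iff_forall _).2 fun x hx => ?_
  refine Layer.eq_one_of_disjoint_supports (A := {L}) (B := comps G \ {L})
    (fun M hM => by rw [Set.mem_singleton_iff] at hM; exact hM ▸ hL)
    (fun M hM => comps_simple hF M hM.1) Set.disjoint_sdiff_right ?_ hx.2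
  rw [sSup_singleton]; exact hx.1

theorem le_centralizer_others {L : Subgroup G} (hL : IsComponent L) :
    L ≤ centralizer (others L : Set G) := by
  have := Layer.sSup_le_centralizer_of_disjoint (A := {L}) (B := comps G \ {L})
    (fun M hM => by rw [Set.mem_singleton_iff] at hM; exact hM ▸ hL)
    (fun M hM => hM.1) Set.disjoint_sdiff_right
  rwa [sSup_singleton] at this

theorem exists_split {L : Subgroup G} (hL : IsComponent L) {g : G} (hg : g ∈ layer G) :
    ∃ a ∈ L, ∃ b ∈ others L, a * b = g := by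
  have := Layer.exists_mul_sSup_union (A := {L}) (B := comps G \ {L})
    (fun M hM => by rw [Set.mem_singleton_iff] at hM; exact hM ▸ hL)
    (fun M hM => hM.1) Set.disjoint_sdiff_right (g := g) (by
      rw [Set.union_sdiff_cancel (Set.singleton_subset_iff.2 (show L ∈ comps G from hL))]
      exact hg)
  rwa [sSup_singleton] at this

omit hF in
theorem le_others {K L : Subgroup G} (hK : IsComponent K) (hne : K ≠ L) : K ≤ others L :=
  le_sSup ⟨hK, hne⟩

omit hF in
theorem conj_mem_others {L : Subgroup G} {b : G} (g : G) (hb : b ∈ others L) :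
    g * b * g⁻¹ ∈ others (L.map (MulAut.conj g).toMonoidHom) := by
  refine SetLike.le_def.1 (sSup_le_sSup ?_) (Layer.conj_mem_sSup_image g hb)
  rintro _ ⟨M, ⟨hM, hne⟩, rfl⟩
  exact ⟨Layer.isComponent_map_conj hM g, fun e => hne (Layer.map_conj_inj e)⟩

end

/-- The data attached to a component: the projection `a` of `z`. -/
structure Proj (Q : Subgroup G) (z : G) (L : Subgroup G) (a b : G) : Prop where
  comp : IsComponent L
  simple : IsSimpleGroup ↥L
  ha : a ∈ L
  hb : b ∈ others L
  hz : a * b = z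

theorem Ctx.z_mem_layer (h : Ctx Q z) (hF : fittingSubgroup G = ⊥) : z ∈ layer G := by
  refine h.mem_of_normalized (by rw [normalizer_eq_top_iff.2 inferInstance]; exact le_top) fun e => ?_
  haveI : Nontrivial G := ⟨z, 1, h.z_ne⟩
  exact Layer.generalizedFitting_ne_bot (G := G) (by rw [generalizedFittingSubgroup, e, hF, bot_sup_eq])

theorem Ctx.exists_proj (h : Ctx Q z) (hF : fittingSubgroup G = ⊥) {L : Subgroup G}
    (hL : IsComponent L) : ∃ a b, Proj Q z L a b := by
  obtain ⟨a, ha, b, hb, e⟩ := exists_split hF hL (h.z_mem_layer hF)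
  exact ⟨a, b, hL, simple_of_trivial_radical hF hL, ha, hb, e⟩

section

variable {L : Subgroup G} {a b : G} (h : Ctx Q z) (hF : fittingSubgroup G = ⊥)
  (hP : Proj Q z L a b)
include h hF hP

theorem Proj.comm_b {x : G} (hx : x ∈ L) : x * b = b * x :=
  (mem_centralizer_iff.1 (le_centralizer_others hF hP.comp hx) b hP.hb).symm

theorem Proj.comm_iff {x : G} (hx : x ∈ L) : x * z = z * x ↔ x * a = a * x := by
  rw [← hP.hz]
  constructor
  · intro e
    rw [← mul_assoc, mul_assoc a b x, ← hP.comm_b h hF hx, ← mul_assoc] at e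
    exact mul_right_cancel e
  · intro e
    rw [← mul_assoc, e, mul_assoc, mul_assoc, hP.comm_b h hF hx]

theorem Proj.a_sq : a * a = 1 := by
  have e : a * a * (b * b) = 1 * 1 := by
    rw [one_mul, ← h.z_sq, ← hP.hz]
    have := hP.comm_b h hF hP.ha
    calc a * a * (b * b) = a * (a * b) * b := by group
      _ = a * (b * a) * b := by rw [this]
      _ = a * b * (a * b) := by group
  exact (eq_of_disjoint (inf_others_eq_bot hF hP.comp) (mul_mem hP.ha hP.ha) (one_mem _)
    (mul_mem hP.hb hP.hb) (one_mem _) e).1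

theorem Proj.a_ne : a ≠ 1 := fun e => h.not_commute hP.comp fun x hx =>
  mem_centralizer_singleton_iff.2 ((hP.comm_iff h hF hx).2 (by rw [e, mul_one, one_mul]))

theorem Proj.a_inv : a⁻¹ = a := inv_eq_of_mul_eq_one_right (hP.a_sq h hF)

theorem Proj.a_mem_centralizer : a ∈ L ⊓ centralizer ({z} : Set G) :=
  Subgroup.mem_inf.2 ⟨hP.ha, mem_centralizer_singleton_iff.2 ((hP.comm_iff h hF hP.ha).2 rfl)⟩

omit hF in
/-- An element of `C_L(z)` and a conjugate of its inverse by an element of `Q`. -/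
theorem Proj.pair_mem {x q : G} (hx : x ∈ L ⊓ centralizer ({z} : Set G)) (hq : q ∈ Q) :
    x * (q * x⁻¹ * q⁻¹) ∈ Q := by
  have := (mem_normalizer_iff.1 (h.nrm (Subgroup.mem_inf.1 hx).2) q).1 hq
  simpa [mul_assoc] using Q.mul_mem this (Q.inv_mem hq)

/-- `C_L(z)` contains a Sylow 2-subgroup of `L`. -/
theorem Proj.exists_sylIn : ∃ U : Subgroup G, U ≤ L ⊓ centralizer ({z} : Set G) ∧ Control.SylIn 2 U L := by
  haveI : Fact (Nat.Prime 2) := ⟨Nat.prime_two⟩
  obtain ⟨T, -, hT⟩ := h.exists_sylow_centralizing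
  have h1 := (Control.sylIn_top T).inf_normal (N := layer G) le_top
    (by rw [normalizer_eq_top_iff.2 inferInstance])
  have h2 := h1.inf_normal (N := L) (Layer.component_le_layer hP.comp)
    (Layer.layer_le_normalizer_component hP.comp)
  exact ⟨_, le_inf inf_le_right ((inf_le_left.trans inf_le_left).trans hT), h2⟩

/-- `C_L(z)` is not of order two. -/
theorem Proj.not_all_a (hall : ∀ x ∈ L ⊓ centralizer ({z} : Set G), x = 1 ∨ x = a) : False := by
  haveI : Fact (Nat.Prime 2) := ⟨Nat.prime_two⟩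
  haveI := hP.simple
  haveI : Group.IsPerfect ↥L := hP.comp.2.1
  obtain ⟨U, hU, hUL⟩ := hP.exists_sylIn h hF
  have ha2 : orderOf (⟨a, hP.ha⟩ : ↥L) = 2 := orderOf_eq_prime
    (by ext; simpa [pow_two] using hP.a_sq h hF)
    (fun e => hP.a_ne h hF (congrArg Subtype.val e))
  have h2 : 2 ∣ Nat.card ↥L := ha2 ▸ orderOf_dvd_natCard _
  have h4 := Layer.four_dvd_card_simple h2
  have hUle : U ≤ zpowers a := fun x hx => by
    rcases hall x (hU hx) with rfl | rfl
    exacts [one_mem _, mem_zpowers _]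
  have hUc : Nat.card ↥U ∣ 2 := by
    have := card_dvd_of_le hUle
    rwa [Nat.card_zpowers, ← Subgroup.orderOf_coe (⟨a, hP.ha⟩ : ↥L) |>.trans ha2 |>.symm] at this
  rw [← relIndex_bot_left L, ← relIndex_mul_relIndex ⊥ U L bot_le hUL.le, relIndex_bot_left] at h4
  have h5 : 2 * 2 ∣ 2 * U.relIndex L := h4.trans (mul_dvd_mul_right hUc _)
  exact hUL.not_dvd (Nat.dvd_of_mul_dvd_mul_left two_pos h5)

omit h in
theorem Proj.uniq {x x' y y' : G} (hx : x ∈ L) (hx' : x' ∈ L) (hy : y ∈ others L)
    (hy' : y' ∈ others L) (e : x * y = x' * y') : x = x' ∧ y = y' :=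
  eq_of_disjoint (inf_others_eq_bot hF hP.comp) hx hx' hy hy' e

/-- Components moved by `Q` lie in orbits of length two. -/
theorem Proj.orbit_le_two {q r : G} (hq : q ∈ Q) (hr : r ∈ Q)
    (hqL : L.map (MulAut.conj q).toMonoidHom ≠ L)
    (hr1 : L.map (MulAut.conj r).toMonoidHom ≠ L)
    (hr2 : L.map (MulAut.conj r).toMonoidHom ≠ L.map (MulAut.conj q).toMonoidHom) : False := by
  refine hP.not_all_a h hF fun x hx => ?_
  by_contra hne
  push Not at hne
  set M := L.map (MulAut.conj r).toMonoidHom with hM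
  have hMc : IsComponent M := Layer.isComponent_map_conj hP.comp r
  have hqc : IsComponent (L.map (MulAut.conj q).toMonoidHom) := Layer.isComponent_map_conj hP.comp q
  have hxL := (Subgroup.mem_inf.1 hx).1
  set y := r * x⁻¹ * r⁻¹ with hy
  have hyM : y ∈ M := Layer.conj_mem_map_conj r (inv_mem hxL)
  set w := x * (q * x⁻¹ * q⁻¹) * (r * (q * x * q⁻¹) * r⁻¹) with hw
  have hrq : L.map (MulAut.conj (r * q)).toMonoidHom ≠ M := by
    rw [← Layer.map_conj_map_conj, hM]
    exact fun e => hqL (Layer.map_conj_inj e)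
  have hwM : w ∈ others M := by
    refine mul_mem (mul_mem ((le_others hP.comp (Ne.symm hr1)) hxL) ?_) ?_
    · exact le_others hqc (Ne.symm hr2) (Layer.conj_mem_map_conj q (inv_mem hxL))
    · refine le_others (Layer.isComponent_map_conj hP.comp (r * q)) hrq ?_
      have := Layer.conj_mem_map_conj (r * q) hxL
      simpa [mul_assoc] using this
  have hc := h.comm_cases (hP.pair_mem h hx hq) hr
  have e : x * (q * x⁻¹ * q⁻¹) * r * (x * (q * x⁻¹ * q⁻¹))⁻¹ * r⁻¹ = w * y := by
    rw [hw, hy]; group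
  rw [e] at hc
  have hwy : w * y = y * w :=
    mem_centralizer_iff.1 (le_centralizer_others hF hMc hyM) w hwM
  rw [hwy] at hc
  rcases hc with hc | hc
  · have := (eq_of_disjoint (inf_others_eq_bot hF hMc) hyM (one_mem _) hwM (one_mem _)
      (hc.trans (one_mul 1).symm)).1
    rw [hy, conj_eq_one_iff, inv_eq_one] at this
    exact hne.1 this
  · have hz : z = r * a * r⁻¹ * (r * b * r⁻¹) := by
      rw [show r * a * r⁻¹ * (r * b * r⁻¹) = r * (a * b) * r⁻¹ by group, hP.hz, h.z_comm hr]
      group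
    have := (eq_of_disjoint (inf_others_eq_bot hF hMc) hyM
      (Layer.conj_mem_map_conj r hP.ha : r * a * r⁻¹ ∈ M) hwM (conj_mem_others r hP.hb)
      (hc.trans hz)).1
    rw [hy, mul_left_inj, mul_right_inj] at this
    exact hne.2 (by rw [← inv_inv x, this, hP.a_inv h hF])

end

/-- `Q` permutes the components transitively. -/
theorem Ctx.exists_conj_component (h : Ctx Q z) (hF : fittingSubgroup G = ⊥) {L K : Subgroup G}
    (hL : IsComponent L) (hK : IsComponent K) :
    ∃ q ∈ Q, L.map (MulAut.conj q).toMonoidHom = K := by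
  by_contra hno
  push Not at hno
  set S : Set (Subgroup G) := {M | ∃ q ∈ Q, L.map (MulAut.conj q).toMonoidHom = M}
  have hSn : Q ≤ normalizer ((sSup S : Subgroup G) : Set G) := fun g hg =>
    Layer.mem_normalizer_of_conj_mem fun x hx => by
      refine SetLike.le_def.1 (sSup_le_sSup ?_) (Layer.conj_mem_sSup_image g hx)
      rintro _ ⟨M, ⟨q, hq, rfl⟩, rfl⟩
      exact ⟨g * q, Q.mul_mem hg hq, (Layer.map_conj_map_conj _ _ _).symm⟩
  have hne : sSup S ≠ ⊥ := fun e => Layer.qs_subgroup_ne_bot hL.2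
    (le_bot_iff.1 (e ▸ le_sSup (⟨1, one_mem _, Layer.map_conj_one L⟩ : L ∈ S)))
  have hz := h.mem_of_normalized hSn hne
  refine h.not_commute hK fun x hx => mem_centralizer_singleton_iff.2 ?_
  have hle : sSup S ≤ others K := sSup_le fun M ⟨q, hq, e⟩ =>
    le_others (e ▸ Layer.isComponent_map_conj hL q) (fun e' => hno q hq (e.trans e'))
  exact (mem_centralizer_iff.1 (le_centralizer_others hF hK hx) z (hle hz)).symm

end Cfsg.Agent.LargeExtraReduce
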