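import Cfsg.Agent.LargeExtraReduce.Components

/-!
# Two components interchanged by a large extraspecial 2-subgroup
-/

set_option autoImplicit false
set_option linter.unusedSectionVars false
set_option linter.style.haveILetI false

namespace Cfsg.Agent.LargeExtraReduce

open Subgroup Cfsg
open scoped commutatorElement

variable {G : Type*} [Group G] [Finite G] {Q : Subgroup G} {z : G} {L : Subgroup G} {a b u : G}
  (h : Ctx Q z) (hF : fittingSubgroup G = ⊥) (hP : Proj Q z L a b) (hu : u ∈ Q)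
  (huL : L.map (MulAut.conj u).toMonoidHom ≠ L)

include h hF hP hu huL

theorem comps_eq {K : Subgroup G} (hK : IsComponent K) :
    K = L ∨ K = L.map (MulAut.conj u).toMonoidHom := by
  by_contra hne
  push Not at hne
  obtain ⟨r, hr, rfl⟩ := h.exists_conj_component hF hP.comp hK
  exact hP.orbit_le_two h hF hu hr huL hne.1 hne.2

theorem layer_eq : L ⊔ L.map (MulAut.conj u).toMonoidHom = layer G := by
  refine le_antisymm (sup_le (Layer.component_le_layer hP.comp)
    (Layer.component_le_layer (Layer.isComponent_map_conj hP.comp u))) (sSup_le fun K hK => ?_)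
  rcases comps_eq h hF hP hu huL hK with rfl | rfl
  exacts [le_sup_left, le_sup_right]

theorem others_eq : others L = L.map (MulAut.conj u).toMonoidHom := by
  refine le_antisymm (sSup_le fun K ⟨hK, hne⟩ => ?_)
    (le_others (Layer.isComponent_map_conj hP.comp u) huL)
  rcases comps_eq h hF hP hu huL hK with rfl | rfl
  exacts [absurd rfl hne, le_rfl]

theorem z_eq : z = a * (u * a * u⁻¹) := by
  have hb' : b ∈ L.map (MulAut.conj u).toMonoidHom := others_eq h hF hP hu huL ▸ hP.hb
  have h2 : (L.map (MulAut.conj u).toMonoidHom).map (MulAut.conj u).toMonoidHom = L := by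
    rcases comps_eq h hF hP hu huL
      (Layer.isComponent_map_conj (Layer.isComponent_map_conj hP.comp u) u) with e | e
    · exact e
    · exact absurd (Layer.map_conj_inj e) huL
  have h3 : u * b * u⁻¹ ∈ L := h2 ▸ Layer.conj_mem_map_conj u hb'
  have h4 : u * a * u⁻¹ ∈ others L := by
    rw [others_eq h hF hP hu huL]; exact Layer.conj_mem_map_conj u hP.ha
  have e1 : u * a * u⁻¹ * (u * b * u⁻¹) = z := by
    rw [show u * a * u⁻¹ * (u * b * u⁻¹) = u * (a * b) * u⁻¹ by group, hP.hz, h.z_comm hu]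
    group
  rw [← mem_centralizer_iff.1 (le_centralizer_others hF hP.comp h3) _ h4 |>.symm] at e1
  have := (hP.uniq hF hP.ha h3 hP.hb h4 (hP.hz.trans e1.symm)).2
  rw [← this, hP.hz]

/-- Elements of `C_L(z)` have order a power of two. -/
theorem isPGroup_centralizer : IsPGroup 2 ↥(L ⊓ centralizer ({z} : Set G)) := by
  rintro ⟨x, hx⟩
  obtain ⟨k, hk⟩ := h.q_two ⟨_, hP.pair_mem h hx hu⟩
  refine ⟨k, Subtype.ext ?_⟩
  show x ^ 2 ^ k = 1
  have hxL := (Subgroup.mem_inf.1 hx).1
  have hy : u * x⁻¹ * u⁻¹ ∈ others L := by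
    rw [others_eq h hF hP hu huL]; exact Layer.conj_mem_map_conj u (inv_mem hxL)
  have hk' := congrArg Subtype.val hk
  simp only [SubgroupClass.coe_pow, OneMemClass.coe_one] at hk'
  rw [Commute.mul_pow (mem_centralizer_iff.1 (le_centralizer_others hF hP.comp hxL) _ hy).symm]
    at hk'
  exact (hP.uniq hF (pow_mem hxL _) (one_mem _) (pow_mem hy _) (one_mem _)
    (hk'.trans (one_mul 1).symm)).1

/-- Squares of elements of `C_L(z)` lie in `⟨a⟩`. -/
theorem sq_mem {x : G} (hx : x ∈ L ⊓ centralizer ({z} : Set G)) : x * x ∈ zpowers a := by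
  have hxL := (Subgroup.mem_inf.1 hx).1
  set y := u * x⁻¹ * u⁻¹
  have hy : y ∈ others L := by
    rw [others_eq h hF hP hu huL]; exact Layer.conj_mem_map_conj u (inv_mem hxL)
  have hc : y * x = x * y := mem_centralizer_iff.1 (le_centralizer_others hF hP.comp hxL) y hy
  have e : x * y * (x * y) = x * x * (y * y) := by
    calc x * y * (x * y) = x * (y * x) * y := by group
      _ = x * (x * y) * y := by rw [hc]
      _ = _ := by group
  rcases h.sq_cases (hP.pair_mem h hx hu) with h1 | h1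
  · rw [e] at h1
    rw [(hP.uniq hF (mul_mem hxL hxL) (one_mem _) (mul_mem hy hy) (one_mem _)
      (h1.trans (one_mul 1).symm)).1]
    exact one_mem _
  · rw [e] at h1
    rw [(hP.uniq hF (mul_mem hxL hxL) hP.ha (mul_mem hy hy) hP.hb (h1.trans hP.hz.symm)).1]
    exact mem_zpowers _

theorem exists_sylow : ∃ R : Sylow 2 ↥L, (R : Subgroup ↥L) = (centralizer ({a} : Set G)).subgroupOf L ∧
    (frattini ↥(R : Subgroup ↥L)).map ((L.subtype).comp (R : Subgroup ↥L).subtype) ≤ zpowers a := by
  haveI : Fact (Nat.Prime 2) := ⟨Nat.prime_two⟩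
  have hR := isPGroup_centralizer h hF hP hu huL
  obtain ⟨U, hU, hUL⟩ := hP.exists_sylIn h hF
  have hUR := hUL.eq_of_le hR inf_le_left hU
  rw [← hUR] at hUL
  have hnd := hUL.not_dvd
  set R₀ := (L ⊓ centralizer ({z} : Set G)).subgroupOf L with hR₀
  have hR₀p : IsPGroup 2 ↥R₀ := hR.of_equiv (subgroupOfEquivOfLe inf_le_left).symm
  set R := hR₀p.toSylow hnd with hRdef
  have hRc : (R : Subgroup ↥L) = (centralizer ({a} : Set G)).subgroupOf L := by
    ext ⟨x, hx⟩
    show x ∈ L ⊓ centralizer ({z} : Set G) ↔ x ∈ centralizer ({a} : Set G)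
    rw [Subgroup.mem_inf, mem_centralizer_singleton_iff, mem_centralizer_singleton_iff,
      hP.comm_iff h hF hx]
    exact and_iff_right hx
  refine ⟨R, hRc, ?_⟩
  set f := (L.subtype).comp (R : Subgroup ↥L).subtype
  rw [map_le_iff_le_comap]
  set N := (zpowers a).comap f
  have hsq : ∀ x : ↥(R : Subgroup ↥L), x * x ∈ N := fun x => by
    show f (x * x) ∈ zpowers a
    rw [map_mul]
    exact sq_mem h hF hP hu huL (Subgroup.mem_inf.2
      ⟨(Subgroup.mem_inf.1 (show ((x : ↥L) : G) ∈ L ⊓ centralizer ({z} : Set G) from x.2)).1,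
       (Subgroup.mem_inf.1 (show ((x : ↥L) : G) ∈ L ⊓ centralizer ({z} : Set G) from x.2)).2⟩)
  have hNn : N.Normal := ⟨fun n hn g => by
    obtain ⟨i, hi⟩ := Subgroup.mem_zpowers_iff.1 (show f n ∈ zpowers a from hn)
    have hg : f g ∈ centralizer ({a} : Set G) := by
      exact SetLike.le_def.1 hRc.le g.2
    show f (g * n * g⁻¹) ∈ zpowers a
    rw [map_mul, map_mul, map_inv, ← hi,
      (show Commute (f g) a from mem_centralizer_singleton_iff.1 hg).zpow_right i |>.eq,
      mul_assoc, mul_inv_cancel, mul_one]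
    exact zpow_mem (mem_zpowers a) i⟩
  refine Fusion.frattini_le_of_elementary (p := 2) N ?_ (fun x => by rw [pow_two]; exact hsq x)
  rw [_root_.commutator_def, commutator_le]
  intro x _ y _
  have e : ⁅x, y⁆ = x * y * (x * y) * (y⁻¹ * (x * x)⁻¹ * y⁻¹⁻¹) * (y * y)⁻¹ := by
    rw [commutatorElement_def]; group
  rw [e]
  exact mul_mem (mul_mem (hsq _) (hNn.conj_mem _ (inv_mem (hsq x)) _)) (inv_mem (hsq y))

theorem ne_pCore_centralizer :
    Q ≠ (pCore 2 ↥(centralizer ({z} : Set G))).map (centralizer ({z} : Set G)).subtype := by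
  haveI : Fact (Nat.Prime 2) := ⟨Nat.prime_two⟩
  intro hQ
  refine hP.not_all_a h hF fun x hx => ?_
  have hxL := (Subgroup.mem_inf.1 hx).1
  have hxQ : x ∈ Q := by
    set C := centralizer ({z} : Set G)
    have hp : IsPGroup 2 ↥(L.subgroupOf C) := by
      refine (isPGroup_centralizer h hF hP hu huL).of_injective
        ((C.subtype.comp (L.subgroupOf C).subtype).codRestrict (L ⊓ C)
          fun w => Subgroup.mem_inf.2 ⟨w.2, w.1.2⟩) fun v w e => ?_
      exact Subtype.ext (Subtype.ext (congrArg Subtype.val e :))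
    have := Layer.subnormal_le_pCore hP.comp.1.subgroupOf hp
    rw [hQ]
    exact ⟨⟨x, (Subgroup.mem_inf.1 hx).2⟩, this hxL, rfl⟩
  have hy : u * x⁻¹ * u⁻¹ ∈ others L := by
    rw [others_eq h hF hP hu huL]; exact Layer.conj_mem_map_conj u (inv_mem hxL)
  have e : x * u * x⁻¹ * u⁻¹ = x * (u * x⁻¹ * u⁻¹) := by group
  rcases h.comm_cases hxQ hu with h1 | h1 <;> rw [e] at h1
  · exact Or.inl (hP.uniq hF hxL (one_mem _) hy (one_mem _) (h1.trans (one_mul 1).symm)).1
  · exact Or.inr (hP.uniq hF hxL hP.ha hy hP.hb (h1.trans hP.hz.symm)).1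

end Cfsg.Agent.LargeExtraReduce
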